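import Groth.Agent.S0107
import Groth.Agent.EtConsAb.Serre
import Groth.Agent.EtConsAb.ConstMod
import Groth.Agent.EtConsAb.PullTriv
import Groth.Agent.EtaleSite.Pull
import Groth.Agent.EtaleSite.ConstSections
import Groth.Agent.EtSupp.Basic
import Groth.Agent.EtLocConst.Basic
import Groth.Prelude.Def_EtCore

/-!
# Prime-to-`ℓ` covers filtering finite locally constant sheaves killed by `ℓ`
-/

set_option autoImplicit false
set_option linter.style.haveILetI false
set_option backward.isDefEq.respectTransparency.types false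
set_option backward.isDefEq.respectTransparency false

universe u

open CategoryTheory CategoryTheory.Limits AlgebraicGeometry Opposite ZeroObject

noncomputable section

namespace Groth.Agent.EllFilt

open Groth.Agent Groth.Agent.EtaleSite

section Abelian

variable {A : Type*} [Category A] [Abelian A] (C : A)

/-- Successive extensions of `C`. -/
inductive HasFilt : A → Prop
  | zero {F : A} (h : IsZero F) : HasFilt F
  | step {G F : A} (i : G ⟶ F) [Mono i] (h : HasFilt G) (e : cokernel i ≅ C) : HasFilt F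

variable {C}

theorem HasFilt.exists_chain {F : A} (h : HasFilt C F) :
    ∃ (n : ℕ) (G : ℕ → A) (φ : ∀ i, G i ⟶ G (i + 1)), IsZero (G 0) ∧ Nonempty (G n ≅ F) ∧
      ∀ i, i < n → Mono (φ i) ∧ Nonempty (cokernel (φ i) ≅ C) := by
  induction h with
  | @zero F h => exact ⟨0, fun _ => F, fun _ => 𝟙 F, h, ⟨Iso.refl _⟩, fun i hi => absurd hi (Nat.not_lt_zero i)⟩
  | @step G F j _ _ e ih =>
    obtain ⟨n, H, φ, h0, ⟨α⟩, hφ⟩ := ih
    classical
    let K : ℕ → A := fun i => if i ≤ n then H i else F
    have hK : ∀ i, i ≤ n → K i = H i := fun i hi => if_pos hi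
    have hKF : K (n + 1) = F := if_neg (Nat.not_succ_le_self n)
    let ψ : ∀ i, K i ⟶ K (i + 1) := fun i =>
      if hi : i + 1 ≤ n then eqToHom (hK i (Nat.le_of_succ_le hi)) ≫ φ i ≫ eqToHom (hK (i + 1) hi).symm
      else if hi' : i = n then
        eqToHom ((congrArg K hi').trans (hK n le_rfl)) ≫ α.hom ≫ j ≫ eqToHom ((congrArg (fun k => K (k + 1)) hi').trans hKF).symm
      else 0
    refine ⟨n + 1, K, ψ, (hK 0 (Nat.zero_le n)).symm ▸ h0, ⟨eqToIso hKF⟩, fun i hi => ?_⟩
    by_cases h1 : i + 1 ≤ n
    · simp only [ψ, dif_pos h1]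
      obtain ⟨hm, ⟨β⟩⟩ := hφ i h1
      exact ⟨inferInstance, ⟨(cokernelEpiComp _ _) ≪≫ cokernelCompIsIso _ _ ≪≫ β⟩⟩
    · have h2 : i = n := by omega
      subst h2
      rw [show ψ i = eqToHom (hK i le_rfl) ≫ α.hom ≫ j ≫ eqToHom hKF.symm from
        (dif_neg h1).trans (dif_pos rfl)]
      exact ⟨inferInstance, ⟨cokernelEpiComp _ _ ≪≫ cokernelEpiComp _ _ ≪≫ cokernelCompIsIso _ _ ≪≫ e⟩⟩

theorem HasFilt.of_iso {F F' : A} (h : HasFilt C F) (α : F ≅ F') : HasFilt C F' := by
  cases h with
  | zero h => exact .zero (h.of_iso α.symm)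
  | step i h e => exact .step (i ≫ α.hom) h (cokernelCompIsIso i α.hom ≪≫ e)

/-- Extensions of a filtered object by `C` are filtered. -/
theorem HasFilt.extension {Q : A} (hQ : HasFilt C Q) :
    ∀ {F : A} (c : C ⟶ F) [Mono c], Nonempty (cokernel c ≅ Q) → HasFilt C F := by
  induction hQ with
  | @zero Q h =>
    intro F c _ ⟨α⟩
    have : Epi c := Preadditive.epi_of_isZero_cokernel c (h.of_iso α)
    have : IsIso c := isIso_of_mono_of_epi c
    exact .step (G := 0) (0 : (0 : A) ⟶ F) (h := .zero (isZero_zero A)) (cokernelZeroIsoTarget ≪≫ (asIso c).symm)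
  | @step G Q i _ hG e ih =>
    intro F c _ ⟨α⟩
    let p := cokernel.π c ≫ α.hom
    let F' := pullback p i
    let c' : C ⟶ F' := pullback.lift c 0 (by simp [p])
    haveI : Mono (c' ≫ pullback.fst p i) := by rw [pullback.lift_fst]; infer_instance
    haveI : Mono c' := mono_of_mono c' (pullback.fst p i)
    have hker : IsLimit (KernelFork.ofι c' (pullback.lift_snd _ _ _ : c' ≫ pullback.snd p i = 0)) :=
      KernelFork.IsLimit.ofι' c' _ fun {W} t ht => by
        have h1 : (t ≫ pullback.fst p i) ≫ cokernel.π c = 0 := by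
          rw [← cancel_mono α.hom, Category.assoc, zero_comp]
          show (t ≫ _) ≫ p = 0
          rw [Category.assoc, pullback.condition, reassoc_of% ht, zero_comp]
        refine ⟨Abelian.monoLift c _ h1, pullback.hom_ext ?_ ?_⟩
        · rw [Category.assoc, pullback.lift_fst, Abelian.monoLift_comp]
        · rw [Category.assoc, pullback.lift_snd, comp_zero, ht]
    have hcok := Abelian.epiIsCokernelOfKernel _ hker
    have hF' : HasFilt C F' :=
      ih c' ⟨IsColimit.coconePointUniqueUpToIso (colimit.isColimit _) hcok⟩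
    have hker2 : IsLimit (KernelFork.ofι (pullback.fst p i)
        (show pullback.fst p i ≫ (p ≫ cokernel.π i) = 0 by
          rw [← Category.assoc, pullback.condition, Category.assoc, cokernel.condition, comp_zero])) :=
      KernelFork.IsLimit.ofι' _ _ fun {W} t ht => by
        have h1 : (t ≫ p) ≫ cokernel.π i = 0 := by rw [Category.assoc]; exact ht
        exact ⟨pullback.lift t (Abelian.monoLift i _ h1) (Abelian.monoLift_comp i _ h1).symm, pullback.lift_fst _ _ _⟩
    have hcok2 := Abelian.epiIsCokernelOfKernel _ hker2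
    exact .step (pullback.fst p i) hF' (IsColimit.coconePointUniqueUpToIso (colimit.isColimit _) hcok2 ≪≫ e)

end Abelian

variable {X : Scheme.{u}} {F : EtCoh.Ab X}

/-- A representing object has a universal section. -/
theorem exists_universal (hF : EtCoh.IsFiniteLocallyConstant F) :
    ∃ (U : X.Etale) (_ : IsFinite U.hom) (η : F.obj.obj (op U)),
      ∀ W : X.Etale, Function.Bijective fun a : W ⟶ U => (LccRepLib.res F a η : F.obj.obj (op W)) := by
  obtain ⟨U, hU, ⟨e⟩⟩ := S0107.result F hF
  let z : (yoneda.obj U ⋙ uliftFunctor.{u + 1}).obj (op U) := ULift.up.{u + 1, u} (𝟙 U : U ⟶ U)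
  let η : F.obj.obj (op U) := e.inv.app (op U) z
  have key : ∀ (W : X.Etale) (a : W ⟶ U), LccRepLib.res F a η = e.inv.app (op W) (ULift.up a) := by
    intro W a
    refine (NatTrans.naturality_apply e.inv a.op z).symm.trans ?_
    refine congrArg (e.inv.app (op W)) (ULift.ext _ _ ?_)
    show a ≫ 𝟙 U = a
    rw [Category.comp_id]
  refine ⟨U, hU, η, fun W => ⟨fun a b h => ?_, fun s => ⟨(e.hom.app (op W) s).down, ?_⟩⟩⟩
  · simp only [key] at h
    exact congrArg ULift.down ((ConcreteCategory.bijective_of_isIso (e.inv.app (op W))).1 h)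
  · refine (key W _).trans ?_
    exact ConcreteCategory.congr_hom (Iso.hom_inv_id_app e (op W)) s

/-- The points of the representing object are the stalk. -/
theorem bijective_germ_universal {U : X.Etale} {η : F.obj.obj (op U)}
    (hη : ∀ W : X.Etale, Function.Bijective fun a : W ⟶ U => (LccRepLib.res F a η : F.obj.obj (op W)))
    {Ω : Type u} [Field Ω] [IsSepClosed Ω] (ξ : Spec (CommRingCat.of Ω) ⟶ X) :
    Function.Bijective fun φ : (Scheme.pointSmallEtale ξ).fiber.obj U => germ ξ F U φ η := by
  refine ⟨fun φ₁ φ₂ h => ?_, fun p => ?_⟩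
  · obtain ⟨W, w, a, b, ha, hb⟩ := EtConsAb.exists_refine φ₁ φ₂
    subst ha hb
    have h' : germ ξ F W w (LccRepLib.res F a η) = germ ξ F W w (LccRepLib.res F b η) := by
      simp only [LccRepLib.res, germ_res]; exact h
    obtain ⟨W', g, w', hw', e⟩ := (germ_eq_iff ξ F W w _ _).1 h'
    have hab : g ≫ a = g ≫ b := (hη W').1 (show LccRepLib.res F (g ≫ a) η = LccRepLib.res F (g ≫ b) η by
      rw [LccRepLib.res_comp, LccRepLib.res_comp]; exact e)
    rw [← hw', ← EtConsAb.fiber_map_comp, ← EtConsAb.fiber_map_comp, hab]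
  · obtain ⟨V, ψ, s, rfl⟩ := exists_germ_eq ξ F p
    obtain ⟨a, rfl⟩ := (hη V).2 s
    exact ⟨(Scheme.pointSmallEtale ξ).fiber.map a ψ, (germ_res ξ F a ψ η).symm⟩

/-- Geometric points over `ξ` as morphisms. -/
def fiberEquiv (V : X.Etale) {Ω : Type u} [Field Ω] [IsSepClosed Ω] (ξ : Spec (CommRingCat.of Ω) ⟶ X) :
    (Scheme.pointSmallEtale ξ).fiber.obj V ≃ {t : Spec (CommRingCat.of Ω) ⟶ V.left // t ≫ V.hom = ξ} where
  toFun φ := ⟨φ.left, Over.w φ⟩
  invFun t := (Over.homMk t.1 t.2 : Over.mk ξ ⟶ (Scheme.Etale.forget X).obj V)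
  left_inv _ := Over.OverMorphism.ext rfl
  right_inv _ := rfl

/-- The nonzero locus of the representing object. -/
theorem exists_nonzero_cover (hF : EtCoh.IsFiniteLocallyConstant F) :
    ∃ (T : X.Etale) (_ : IsFinite T.hom) (σ : F.obj.obj (op T)),
      ∀ (Ω : Type u) [Field Ω] [IsSepClosed Ω] (ξ : Spec (CommRingCat.of Ω) ⟶ X),
        Function.Injective (fun φ : (Scheme.pointSmallEtale ξ).fiber.obj T => germ ξ F T φ σ) ∧
        Set.range (fun φ : (Scheme.pointSmallEtale ξ).fiber.obj T => germ ξ F T φ σ) = {0}ᶜ := by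
  obtain ⟨U, hU, η, hη⟩ := exists_universal hF
  obtain ⟨z, hz⟩ := (hη (EtCoh.top X)).2 0
  have hz' : z.left ≫ U.hom = 𝟙 X := MorphismProperty.Over.w z
  haveI : Etale (z.left ≫ U.hom) := hz'.symm ▸ (inferInstance : Etale (𝟙 X))
  haveI : Etale U.hom := U.prop
  haveI : Etale z.left := Etale.of_comp z.left U.hom
  haveI : IsClosedImmersion (z.left ≫ U.hom) :=
    hz'.symm ▸ (inferInstance : IsClosedImmersion (𝟙 X))
  haveI : IsClosedImmersion z.left := IsClosedImmersion.of_comp z.left U.hom
  let G : U.left.Opens := ⟨(Set.range z.left)ᶜ, z.left.isClosedEmbedding.isClosed_range.isOpen_compl⟩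
  haveI : IsClosedImmersion G.ι := IsClosedImmersion.of_isPreimmersion G.ι (by
    rw [Scheme.Opens.range_ι]; exact z.left.isOpenMap.isOpen_range.isClosed_compl)
  haveI : IsFinite (piece U G).hom := inferInstanceAs (IsFinite (G.ι ≫ U.hom))
  refine ⟨piece U G, inferInstance, LccRepLib.res F (pieceHom U G) η, fun Ω _ _ ξ => ?_⟩
  have hg : ∀ φ, germ ξ F (piece U G) φ (LccRepLib.res F (pieceHom U G) η) =
      germ ξ F U ((Scheme.pointSmallEtale ξ).fiber.map (pieceHom U G) φ) η := fun φ => germ_res ξ F _ φ η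
  obtain ⟨φ₀, -⟩ := exists_fiber_point ξ (EtCoh.top X) (ξ default) rfl
  have h0 : germ ξ F U ((Scheme.pointSmallEtale ξ).fiber.map z φ₀) η = 0 := by
    rw [← germ_res]
    exact (congrArg (germ ξ F _ φ₀) hz).trans (map_zero _)
  have hinj := (bijective_germ_universal hη ξ).1
  constructor
  · intro φ ψ h
    simp only [hg] at h
    have h1 := congrArg (fun k => k.left) (hinj h)
    refine Over.OverMorphism.ext ((cancel_mono G.ι).mp ?_)
    exact h1
  · ext p
    simp only [Set.mem_range, Set.mem_compl_iff, Set.mem_singleton_iff, hg]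
    have key : ∀ φ : (Scheme.pointSmallEtale ξ).fiber.obj U, germ ξ F U φ η = 0 →
        φ = (Scheme.pointSmallEtale ξ).fiber.map z φ₀ := fun φ h => hinj (h.trans h0.symm)
    constructor
    · rintro ⟨φ, rfl⟩ he
      let t : Spec (CommRingCat.of Ω) ⟶ G.toScheme := φ.left
      let o : Spec (CommRingCat.of Ω) ⟶ X := φ₀.left
      have h1 : t ≫ G.ι = o ≫ z.left := congrArg (fun k => k.left) (key _ he)
      refine (t default).2 ⟨o default, ?_⟩
      exact (congrArg (fun k => k default) h1).symm
    · intro hp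
      obtain ⟨φ, rfl⟩ := (bijective_germ_universal hη ξ).2 p
      let f : Spec (CommRingCat.of Ω) ⟶ U.left := φ.left
      have hf : f ≫ U.hom = ξ := Over.w φ
      have hφ : Set.range f ⊆ Set.range G.ι := by
        rw [Scheme.Opens.range_ι]
        rintro _ ⟨a, rfl⟩ ⟨x, hx⟩
        refine hp ?_
        haveI : IsOpenImmersion z.left := IsOpenImmersion.of_flat_of_mono z.left
        have hr : Set.range f ⊆ Set.range z.left := by
          rintro _ ⟨b, rfl⟩; exact ⟨x, hx.trans (congrArg f (Subsingleton.elim _ _))⟩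
        have hl : IsOpenImmersion.lift z.left f hr ≫ z.left = f := IsOpenImmersion.lift_fac _ _ _
        let l : Spec (CommRingCat.of Ω) ⟶ X := IsOpenImmersion.lift z.left f hr
        have hl' : l ≫ z.left = f := hl
        have h2 : l = ξ := by
          rw [← hf, ← hl', Category.assoc, hz']; exact (Category.comp_id l).symm
        let o : Spec (CommRingCat.of Ω) ⟶ X := φ₀.left
        have h3 : o = ξ := (Category.comp_id o).symm.trans (Over.w φ₀)
        have e : φ = (Scheme.pointSmallEtale ξ).fiber.map z φ₀ := by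
          refine Over.OverMorphism.ext ?_
          show f = o ≫ z.left
          rw [h3, ← h2, hl']
        show germ ξ F U φ η = 0
        rw [e]; exact h0
      refine ⟨(Over.homMk (IsOpenImmersion.lift G.ι f hφ) ?_ : Over.mk ξ ⟶ (Scheme.Etale.forget X).obj (piece U G)), ?_⟩
      · show _ ≫ G.ι ≫ U.hom = ξ
        rw [IsOpenImmersion.lift_fac_assoc]
        exact hf
      · exact congrArg (fun k => germ ξ F U k η) (Over.OverMorphism.ext (IsOpenImmersion.lift_fac _ _ _))

/-- The map from a constant sheaf given by a global section. -/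
def fromConst (M : AddCommGrpCat.{u + 1}) (G : EtCoh.Ab X) (m : M →+ G.obj.obj (op (EtCoh.top X))) :
    ConstSections.cSheaf X M ⟶ G :=
  ⟨sheafifyLift X.smallEtaleTopology
    { app := fun V => AddCommGrpCat.ofHom ((G.obj.map ((EtCore.topIsTerminal X).from V.unop).op).hom.comp m)
      naturality := fun V W g => by
        ext x
        show G.obj.map ((EtCore.topIsTerminal X).from W.unop).op (m x) =
          G.obj.map g (G.obj.map ((EtCore.topIsTerminal X).from V.unop).op (m x))
        rw [← ConcreteCategory.comp_apply, ← Functor.map_comp, ← Quiver.Hom.op_unop g, ← op_comp,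
          (EtCore.topIsTerminal X).hom_ext (g.unop ≫ (EtCore.topIsTerminal X).from V.unop)
            ((EtCore.topIsTerminal X).from W.unop)] } G.property⟩

theorem fromConst_cst (M : AddCommGrpCat.{u + 1}) (G : EtCoh.Ab X) (m : M →+ G.obj.obj (op (EtCoh.top X))) (x : M) :
    (fromConst M G m).hom.app (op (EtCoh.top X)) (ConstSections.cst (EtCoh.top X) x) = m x := by
  refine (ConcreteCategory.congr_hom (congrArg
      (fun k : (Functor.const X.Etaleᵒᵖ).obj M ⟶ G.obj => k.app (op (EtCoh.top X)))
    (toSheafify_sheafifyLift X.smallEtaleTopology _ G.property)) x).trans ?_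
  show G.obj.map ((EtCore.topIsTerminal X).from (EtCoh.top X)).op (m x) = m x
  rw [(EtCore.topIsTerminal X).hom_ext ((EtCore.topIsTerminal X).from (EtCoh.top X)) (𝟙 _), op_id,
    CategoryTheory.Functor.map_id]
  rfl

end Groth.Agent.EllFilt
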