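import Groth.Agent.EllFilt.Basic
import Mathlib.Data.ZMod.Basic
import Mathlib.GroupTheory.QuotientGroup.Basic

/-!
# Filtration after a cover of degree prime to `ℓ`
-/

set_option autoImplicit false
set_option linter.style.haveILetI false
set_option backward.isDefEq.respectTransparency.types false
set_option backward.isDefEq.respectTransparency false

universe u

open CategoryTheory CategoryTheory.Limits AlgebraicGeometry Opposite

noncomputable section

namespace Groth.Agent.EllFilt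

open Groth.Agent Groth.Agent.EtaleSite Groth.Agent.EtConsAb

/-- All stalks are killed by `ℓ`. -/
def StalkKilled {X : Scheme.{u}} (ℓ : ℕ) (F : EtCoh.Ab X) : Prop :=
  ∀ (Ω : Type u) [Field Ω] [IsSepClosed Ω] (ξ : Spec (CommRingCat.of Ω) ⟶ X)
    (p : ↑((EtCoh.stalk ξ).obj F)), ℓ • p = 0

theorem stalkKilled_of_killedBy {X : Scheme.{u}} (ℓ : ℕ) (F : EtCoh.Ab X)
    (h : EtCoh.KilledBy ℓ F) : StalkKilled ℓ F := by
  intro Ω _ _ ξ p
  obtain ⟨U, φ, s, rfl⟩ := exists_germ_eq ξ F p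
  rw [← map_nsmul]
  exact (congrArg _ (h U s)).trans (map_zero _)

theorem bijective_germ_cst {X : Scheme.{u}} (M : AddCommGrpCat.{u + 1}) {Ω : Type u} [Field Ω] [IsSepClosed Ω]
    (ξ : Spec (CommRingCat.of Ω) ⟶ X) (φ : (Scheme.pointSmallEtale ξ).fiber.obj (EtCoh.top X)) :
    Function.Bijective fun x : M => germ ξ (ConstSections.cSheaf X M) (EtCoh.top X) φ (ConstSections.cst (EtCoh.top X) x) :=
  EtConsAb.isTriv_constSect M (EtCoh.top X) Ω ξ φ

theorem exists_step {X : Scheme.{u}} (ℓ : ℕ) [Fact ℓ.Prime] (F : EtCoh.Ab X)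
    (hF : EtCoh.IsFiniteLocallyConstant F) (hk : StalkKilled ℓ F) :
    ∃ (T : X.Etale) (_ : IsFinite T.hom)
      (c : EtCoh.const T.left (ZMod ℓ) ⟶ (EtCoh.pull T.hom).obj F),
      Mono c ∧ ∀ (Ω : Type u) [Field Ω] [IsSepClosed Ω] (ξ : Spec (CommRingCat.of Ω) ⟶ X),
        Nonempty ({t : Spec (CommRingCat.of Ω) ⟶ T.left // t ≫ T.hom = ξ} ≃
          {p : ↑((EtCoh.stalk ξ).obj F) // p ≠ 0}) := by
  obtain ⟨T, hT, σ, hσ⟩ := exists_nonzero_cover hF
  let f : T.left ⟶ X := T.hom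
  let G := (EtCoh.pull f).obj F
  let diag : EtCoh.top T.left ⟶ (EtCoh.bc f).obj T :=
    MorphismProperty.Over.homMk (pullback.lift (𝟙 T.left) (𝟙 T.left) rfl) (pullback.lift_snd _ _ _) trivial
  let s : G.obj.obj (op (EtCoh.top T.left)) := G.obj.map diag.op (pullSect f F T σ)
  have hgerm : ∀ (Ω : Type u) [Field Ω] [IsSepClosed Ω] (ξ : Spec (CommRingCat.of Ω) ⟶ T.left)
      (φ : (Scheme.pointSmallEtale ξ).fiber.obj (EtCoh.top T.left)),
      germ ξ G (EtCoh.top T.left) φ s ≠ 0 := by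
    intro Ω _ _ ξ φ h
    let ψ : (Scheme.pointSmallEtale (ξ ≫ f)).fiber.obj T :=
      (Over.homMk ξ rfl : Over.mk (ξ ≫ f) ⟶ (Scheme.Etale.forget X).obj T)
    have e : (Scheme.pointSmallEtale ξ).fiber.map diag φ = fiberBcEquiv f ξ T ψ := by
      let o : Spec (CommRingCat.of Ω) ⟶ T.left := φ.left
      have ho : o = ξ := (Category.comp_id o).symm.trans (Over.w φ)
      refine Over.OverMorphism.ext ?_
      show o ≫ pullback.lift (𝟙 T.left) (𝟙 T.left) rfl = pullback.lift ξ ξ rfl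
      rw [ho]
      refine pullback.hom_ext ?_ ?_
      · rw [Category.assoc, pullback.lift_fst, pullback.lift_fst, Category.comp_id]
      · rw [Category.assoc, pullback.lift_snd, pullback.lift_snd, Category.comp_id]
    rw [germ_res, e, germ_pullSect] at h
    have h' := (ConcreteCategory.bijective_of_isIso ((stalkPullIso f ξ).inv.app F)).1
      (h.trans (map_zero _).symm)
    exact (hσ Ω (ξ ≫ f)).2.le ⟨ψ, rfl⟩ h'
  have hkG : StalkKilled ℓ G := fun Ω _ _ ξ p => by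
    obtain ⟨q, rfl⟩ := (ConcreteCategory.bijective_of_isIso ((stalkPullIso f ξ).inv.app F)).2 p
    exact (AddMonoidHom.map_nsmul ((stalkPullIso f ξ).inv.app F).hom ℓ q).symm.trans
      ((congrArg _ (hk Ω (ξ ≫ f) q)).trans (map_zero _))
  have hs : (ℓ : ℤ) • s = 0 := by
    refine sect_ext _ _ fun Ω _ _ ξ φ => ?_
    rw [map_zsmul, map_zero, natCast_zsmul]
    exact hkG Ω ξ _
  let m₀ : ZMod ℓ →+ G.obj.obj (op (EtCoh.top T.left)) :=
    ZMod.lift ℓ ⟨zmultiplesHom _ s, hs⟩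
  let M : AddCommGrpCat.{u + 1} := AddCommGrpCat.of (ULift.{u + 1} (ZMod ℓ))
  let m : M →+ G.obj.obj (op (EtCoh.top T.left)) := m₀.comp AddEquiv.ulift.toAddMonoidHom
  refine ⟨T, hT, fromConst M G m, mono_of_stalk _ fun Ω _ _ ξ => ?_, fun Ω _ _ ξ => ?_⟩
  · obtain ⟨φ, -⟩ := exists_fiber_point ξ (EtCoh.top T.left) (ξ default) rfl
    refine (injective_iff_map_eq_zero _).2 fun p hp => ?_
    obtain ⟨x, rfl⟩ := (bijective_germ_cst M ξ φ).2 p
    rw [germ_naturality] at hp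
    replace hp : germ ξ G (EtCoh.top T.left) φ (m x) = 0 :=
      (congrArg _ (fromConst_cst M G m x)).symm.trans hp
    obtain ⟨a⟩ := x
    haveI : NeZero ℓ := ⟨(Fact.out : ℓ.Prime).ne_zero⟩
    have hm : m (ULift.up a) = a.val • s := by
      show m₀ a = _
      conv_lhs => rw [← ZMod.natCast_zmod_val a, ← Int.cast_natCast]
      rw [ZMod.lift_coe]
      exact natCast_zsmul s a.val
    rw [hm, map_nsmul] at hp
    have hord : addOrderOf (germ ξ G (EtCoh.top T.left) φ s) = ℓ :=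
      addOrderOf_eq_prime (hkG Ω ξ _) (hgerm Ω ξ φ)
    have ha : a = 0 := by
      have hd := addOrderOf_dvd_of_nsmul_eq_zero hp
      rw [hord] at hd
      exact (ZMod.val_eq_zero a).1 (Nat.eq_zero_of_dvd_of_lt hd a.val_lt)
    subst ha
    show germ ξ _ _ φ (ConstSections.cst (EtCoh.top T.left) (0 : M)) = 0
    unfold ConstSections.cst
    rw [map_zero]
    exact map_zero _
  · exact ⟨((fiberEquiv T ξ).symm.trans (Equiv.ofInjective _ (hσ Ω ξ).1)).trans
      (Equiv.subtypeEquivRight fun p => by rw [(hσ Ω ξ).2]; simp)⟩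

theorem card_stalk_mul {X : Scheme.{u}} {C G : EtCoh.Ab X} (c : C ⟶ G) [Mono c] {Ω : Type u} [Field Ω]
    [IsSepClosed Ω] (ξ : Spec (CommRingCat.of Ω) ⟶ X) :
    Nat.card ↑((EtCoh.stalk ξ).obj G) =
      Nat.card ↑((EtCoh.stalk ξ).obj C) * Nat.card ↑((EtCoh.stalk ξ).obj (cokernel c)) := by
  let a := ((EtCoh.stalk ξ).map c).hom
  let b := ((EtCoh.stalk ξ).map (cokernel.π c)).hom
  have hb : Function.Surjective b := stalk_surjective_of_epi ξ (cokernel.π c)
  have hker : b.ker = a.range := by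
    ext p
    refine ⟨fun hp => ?_, ?_⟩
    · exact stalk_exact_apply ξ (ShortComplex.mk c (cokernel.π c) (cokernel.condition c))
        (ShortComplex.exact_of_g_is_cokernel _ (cokernelIsCokernel c)) p hp
    · rintro ⟨q, rfl⟩
      show (EtCoh.stalk ξ).map (cokernel.π c) ((EtCoh.stalk ξ).map c q) = 0
      rw [← ConcreteCategory.comp_apply, ← Functor.map_comp, cokernel.condition, Functor.map_zero]
      rfl
  rw [AddSubgroup.card_eq_card_quotient_mul_card_addSubgroup b.ker,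
    Nat.card_congr (QuotientAddGroup.quotientKerEquivOfSurjective b hb).toEquiv, hker,
    ← Nat.card_congr (AddMonoidHom.ofInjective (stalk_injective_of_mono ξ c)).toEquiv, mul_comm]

theorem card_stalk_const {X : Scheme.{u}} (ℓ : ℕ) {Ω : Type u} [Field Ω] [IsSepClosed Ω]
    (ξ : Spec (CommRingCat.of Ω) ⟶ X) :
    Nat.card ↑((EtCoh.stalk ξ).obj (EtCoh.const X (ZMod ℓ))) = ℓ := by
  obtain ⟨φ, -⟩ := exists_fiber_point ξ (EtCoh.top X) (ξ default) rfl
  rw [← Nat.card_congr (Equiv.ofBijective _ (bijective_germ_cst (AddCommGrpCat.of (ULift.{u + 1} (ZMod ℓ))) ξ φ))]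
  exact (Nat.card_congr Equiv.ulift).trans (Nat.card_zmod ℓ)

theorem exists_cover (ℓ : ℕ) [Fact ℓ.Prime] : ∀ (N : ℕ) (X : Scheme.{u}) (F : EtCoh.Ab X),
    EtCoh.IsFiniteLocallyConstant F → StalkKilled ℓ F →
    (∀ (Ω : Type u) [Field Ω] [IsSepClosed Ω] (ξ : Spec (CommRingCat.of Ω) ⟶ X),
      Nat.card ↑((EtCoh.stalk ξ).obj F) = N) →
    ∃ (T : Scheme.{u}) (f : T ⟶ X) (_ : IsFinite f) (_ : Etale f) (d : ℕ), ℓ.Coprime d ∧
      (∀ (Ω : Type u) [Field Ω] [IsAlgClosed Ω] (η : Spec (CommRingCat.of Ω) ⟶ X),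
        Nat.card {t : Spec (CommRingCat.of Ω) ⟶ T // t ≫ f = η} = d) ∧
      HasFilt (EtCoh.const T (ZMod ℓ)) ((EtCoh.pull f).obj F) := by
  intro N
  induction N using Nat.strong_induction_on with
  | _ N ih =>
  intro X F hF hk hN
  have hℓ : ℓ.Prime := Fact.out
  by_cases h1 : N ≤ 1
  · refine ⟨X, 𝟙 X, inferInstance, inferInstance, 1, Nat.coprime_one_right ℓ, fun Ω _ _ η => ?_, .zero ?_⟩
    · haveI : Unique {t : Spec (CommRingCat.of Ω) ⟶ X // t ≫ 𝟙 X = η} :=
        ⟨⟨⟨η, Category.comp_id η⟩⟩, fun t => Subtype.ext ((Category.comp_id t.1).symm.trans t.2)⟩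
      exact Nat.card_unique
    · refine (EtCoh.pull (𝟙 X)).map_isZero ((isZero_iff_stalk F).2 fun Ω _ _ ξ => ?_)
      haveI := EtConsAb.finite_stalk hF ξ
      haveI : Subsingleton ↑((EtCoh.stalk ξ).obj F) :=
        Finite.card_le_one_iff_subsingleton.mp ((hN Ω ξ).trans_le h1)
      exact AddCommGrpCat.isZero_of_subsingleton _
  push Not at h1
  obtain ⟨T, hT, c, hc, heq⟩ := exists_step ℓ F hF hk
  let f : T.left ⟶ X := T.hom
  haveI : Etale f := T.prop
  let G := (EtCoh.pull f).obj F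
  let Q := cokernel c
  have hG : EtCoh.IsFiniteLocallyConstant G := isFLC_pull f hF
  have hQ : EtCoh.IsFiniteLocallyConstant Q :=
    isFLC_cokernel c (isFLC_const (ULift.{u + 1} (ZMod ℓ))) hG
  have hcard : ∀ (Ω : Type u) [Field Ω] [IsSepClosed Ω] (ξ : Spec (CommRingCat.of Ω) ⟶ T.left),
      N = ℓ * Nat.card ↑((EtCoh.stalk ξ).obj Q) := fun Ω _ _ ξ => by
    have h := card_stalk_mul c ξ
    rw [card_stalk_const] at h
    rw [← h, ← hN Ω (ξ ≫ f)]
    exact Nat.card_congr ((stalkPullIso f ξ).app F).symm.addCommGroupIsoToAddEquiv.toEquiv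
  have hkQ : StalkKilled ℓ Q := fun Ω _ _ ξ p => by
    obtain ⟨q, rfl⟩ := stalk_surjective_of_epi ξ (cokernel.π c) p
    obtain ⟨q', rfl⟩ := (ConcreteCategory.bijective_of_isIso ((stalkPullIso f ξ).inv.app F)).2 q
    refine (map_nsmul _ ℓ _).symm.trans ?_
    have h0 : ℓ • ((stalkPullIso f ξ).inv.app F).hom q' = 0 :=
      (AddMonoidHom.map_nsmul ((stalkPullIso f ξ).inv.app F).hom ℓ q').symm.trans
      ((congrArg _ (hk Ω (ξ ≫ f) q')).trans (map_zero _))
    exact (congrArg _ h0).trans (map_zero _)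
  obtain ⟨T₂, g, hg1, hg2, d₂, hd₂, hd₂c, hfilt⟩ := ih (N / ℓ) (Nat.div_lt_self (by omega) hℓ.one_lt) T.left Q hQ hkQ
    fun Ω _ _ ξ => by rw [hcard Ω ξ, Nat.mul_div_cancel_left _ hℓ.pos]
  classical
  refine ⟨T₂, g ≫ f, inferInstance, inferInstance, if Nonempty X then (N - 1) * d₂ else 1, ?_,
    fun Ω _ _ η => ?_, ?_⟩
  · split_ifs with hne
    · obtain ⟨x⟩ := hne
      obtain ⟨⟨t, ht⟩⟩ : Nonempty {t : Spec (CommRingCat.of (SeparableClosure (X.residueField x))) ⟶ T.left //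
          t ≫ T.hom = geomPointAt X x} := by
        refine (heq _ (geomPointAt X x)).some.nonempty_congr.mpr ?_
        haveI := EtConsAb.finite_stalk hF (geomPointAt X x)
        haveI : Nontrivial ↑((EtCoh.stalk (geomPointAt X x)).obj F) :=
          Finite.one_lt_card_iff_nontrivial.mp (h1.trans_eq (hN _ _).symm)
        obtain ⟨p, hp⟩ := exists_ne (0 : ↑((EtCoh.stalk (geomPointAt X x)).obj F))
        exact ⟨⟨p, hp⟩⟩
      refine Nat.Coprime.mul_right (hℓ.coprime_iff_not_dvd.2 fun hd => ?_) hd₂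
      have hd' : ℓ ∣ N := ⟨_, hcard _ t⟩
      have := Nat.dvd_sub hd' hd
      rw [show N - (N - 1) = 1 by omega] at this
      exact hℓ.one_lt.ne' (Nat.dvd_one.mp this)
    · exact Nat.coprime_one_right ℓ
  · rw [if_pos ⟨η default⟩]
    haveI : Finite {a : Spec (CommRingCat.of Ω) ⟶ T.left // a ≫ T.hom = η} := by
      haveI := EtConsAb.finite_stalk hF η
      exact Finite.of_equiv _ (heq Ω η).some.symm
    have hd0 : d₂ ≠ 0 := by
      rintro rfl
      exact hℓ.one_lt.ne' ((Nat.coprime_zero_right ℓ).mp hd₂)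
    haveI : ∀ a : {a : Spec (CommRingCat.of Ω) ⟶ T.left // a ≫ T.hom = η},
        Finite {t : Spec (CommRingCat.of Ω) ⟶ T₂ // t ≫ g = a.1} := fun a =>
      Nat.finite_of_card_ne_zero ((hd₂c Ω a.1).trans_ne hd0)
    let e : {t : Spec (CommRingCat.of Ω) ⟶ T₂ // t ≫ g ≫ f = η} ≃
        Σ a : {a : Spec (CommRingCat.of Ω) ⟶ T.left // a ≫ T.hom = η},
          {t : Spec (CommRingCat.of Ω) ⟶ T₂ // t ≫ g = a.1} :=
      { toFun := fun t => ⟨⟨t.1 ≫ g, (Category.assoc _ _ _).trans t.2⟩, ⟨t.1, rfl⟩⟩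
        invFun := fun p => ⟨p.2.1, by rw [← Category.assoc, p.2.2]; exact p.1.2⟩
        left_inv := fun _ => rfl
        right_inv := by rintro ⟨⟨a, ha⟩, ⟨t, rfl : t ≫ g = a⟩⟩; rfl }
    cases nonempty_fintype {a : Spec (CommRingCat.of Ω) ⟶ T.left // a ≫ T.hom = η}
    rw [Nat.card_congr e, Nat.card_sigma, Finset.sum_congr rfl (fun a _ => hd₂c Ω a.1), Finset.sum_const,
      Finset.card_univ, ← Nat.card_eq_fintype_card, smul_eq_mul, Nat.card_congr (heq Ω η).some]
    haveI := EtConsAb.finite_stalk hF η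
    cases nonempty_fintype ↑((EtCoh.stalk η).obj F)
    classical
    rw [← hN Ω η, Nat.card_eq_fintype_card, Nat.card_eq_fintype_card, Fintype.card_subtype_compl,
      Fintype.card_subtype_eq]
  · haveI := EtaleSite.preservesFiniteLimits_pull g
    haveI : Mono ((EtCoh.pull g).map c) := inferInstance
    let ι := EtCore.pullConst g (ZMod ℓ)
    refine HasFilt.of_iso ?_ ((EtConsAb.pullComp f g).app F)
    exact HasFilt.extension hfilt (ι.inv ≫ (EtCoh.pull g).map c)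
      ⟨cokernelEpiComp _ _ ≪≫ (PreservesCokernel.iso (EtCoh.pull g) c).symm⟩

end Groth.Agent.EllFilt
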